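import Cfsg.Agent.Lib.Solvable.CoprimeMulAction
import Cfsg.Agent.Lib.RankTwoFpf.Basic
import Cfsg.Agent.Lib.Fusion.GlaubermanThompson
import Cfsg.Agent.Lib.FGS73.MaximalNilpotent

/-!
Coprime action in which all maximal invariant subgroups are nilpotent.
-/

set_option autoImplicit false

namespace CfsgLib.CoprimeMaxInv

open Subgroup
open CfsgLib.RankTwoFpf (Inv inv_map_eq quotAct quotAct_mk subAct)

universe v u

section basic

variable {A : Type v} {G : Type u} [Group A] [Group G] [MulDistribMulAction A G]

/-- A proper invariant subgroup lies in a maximal one. -/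
theorem exists_le_maximal [Finite G] {H : Subgroup G} (hne : H ≠ ⊤) (hH : Inv A H) :
    ∃ M : Subgroup G, H ≤ M ∧ M ≠ ⊤ ∧ Inv A M ∧ ∀ K : Subgroup G, M < K → Inv A K → K = ⊤ := by
  have : Finite (Subgroup G) := Finite.of_injective (fun K : Subgroup G => (K : Set G)) SetLike.coe_injective
  obtain ⟨M, hHM, ⟨hM, hMi⟩, hmax⟩ := (Set.toFinite {K : Subgroup G | K ≠ ⊤ ∧ Inv A K}).exists_le_maximal
    (a := H) ⟨hne, hH⟩
  refine ⟨M, hHM, hM, hMi, fun K hK hKi => by_contra fun hKt => ?_⟩
  exact absurd (hmax ⟨hKt, hKi⟩ hK.le) hK.not_ge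

theorem nilpotent_of_le {H M : Subgroup G} (h : H ≤ M) (hM : Group.IsNilpotent M) : Group.IsNilpotent H :=
  Group.nilpotent_of_mulEquiv (Subgroup.subgroupOfEquivOfLe h)

theorem inv_sup {H K : Subgroup G} (hH : Inv A H) (hK : Inv A K) : Inv A (H ⊔ K) := by
  intro a
  have : H ⊔ K ≤ (H ⊔ K).comap (MulDistribMulAction.toMulAut A G a).toMonoidHom :=
    sup_le (fun x hx => mem_sup_left (hH a x hx)) (fun x hx => mem_sup_right (hK a x hx))
  exact fun x hx => this hx

theorem orderOf_smul' (a : A) (x : G) : orderOf (a • x) = orderOf x :=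
  orderOf_injective (MulDistribMulAction.toMulAut A G a).toMonoidHom
    (MulDistribMulAction.toMulAut A G a).injective x

theorem inv_normalizer [Finite G] {W : Subgroup G} (hW : Inv A W) :
    Inv A (normalizer (W : Set G)) := by
  intro a x hx
  have h := Subgroup.map_equiv_normalizer_eq W (MulDistribMulAction.toMulAut A G a)
  rw [inv_map_eq hW a] at h
  rw [← h]
  exact ⟨x, hx, rfl⟩

theorem inv_zj [Finite G] {W : Subgroup G} (hW : Inv A W) (e : ℕ) :
    Inv A (CfsgLib.ZJCenter.zj e W) := by
  intro a x hx
  have h := CfsgLib.ZJCenter.zj_map (f := (MulDistribMulAction.toMulAut A G a).toMonoidHom)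
    (MulDistribMulAction.toMulAut A G a).injective e W
  rw [inv_map_eq hW a] at h
  rw [← h]
  exact ⟨x, hx, rfl⟩

theorem inv_npc [Finite G] {p : ℕ} [Fact p.Prime] {N : Subgroup G} (hN : CfsgLib.NPC.IsNPC p N) :
    Inv A N := fun a x hx => by
  rw [CfsgLib.NPC.mem_iff_coprime hN] at hx ⊢
  rwa [orderOf_smul']

/-- If the normalizer of `Z(J(P))` is a proper subgroup and nilpotent, there is an invariant normal
`p`-complement different from the whole group. -/
theorem exists_proper_npc [Finite G] {p : ℕ} [Fact p.Prime] (hp2 : p ≠ 2) (hpG : p ∣ Nat.card G)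
    (P : Sylow p G)
    (hnil : Group.IsNilpotent (normalizer (CfsgLib.ZJCenter.zj 0 (P : Subgroup G) : Set G))) :
    ∃ N : Subgroup G, N.Normal ∧ Inv A N ∧ N ≠ ⊤ ∧ (Nat.card N).Coprime p ∧ ∃ k, N.index = p ^ k := by
  obtain ⟨N, hN⟩ := CfsgLib.NPC.hasNormalPComplement_iff.1
    (CfsgLib.GlaubermanThompson.hasNormalPComplement_of_normalizer_zj hp2 (Or.inl rfl) P
      CfsgLib.FGS73.MaxNil.hasNormalPComplement_of_isNilpotent)
  refine ⟨N, hN.1, inv_npc hN, fun h => ?_, hN.2⟩
  have h2 := hN.2.1
  rw [h, Subgroup.card_top] at h2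
  exact (Fact.out : p.Prime).ne_one (Nat.eq_one_of_dvd_coprimes h2 hpG dvd_rfl)

theorem solvable_of_ext {N : Subgroup G} [N.Normal] (h1 : Group.IsSolvable N)
    (h2 : Group.IsSolvable (G ⧸ N)) : Group.IsSolvable G :=
  (Group.isSolvable_iff_subgroup_quotient N).2 ⟨h1, h2⟩

end basic

theorem solvable_of_proper_nilpotent_aux (A : Type v) [Group A] [Finite A] (hA : Group.IsSolvable A) :
    ∀ (n : ℕ) (G : Type u) [Group G] [Finite G] [MulDistribMulAction A G],
      Nat.card G = n → (Nat.card A).Coprime (Nat.card G) →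
      (∀ H : Subgroup G, H ≠ ⊤ → Inv A H → Group.IsNilpotent H) → Group.IsSolvable G := by
  intro n
  induction n using Nat.strong_induction_on with
  | _ n ih =>
    intro G _ _ _ hn hcop hnil
    by_cases hpg : ∀ p : ℕ, p.Prime → p ∣ Nat.card G → p = 2
    · have h2 : IsPGroup 2 G := IsPGroup.of_card (Nat.eq_prime_pow_of_unique_prime_dvd Nat.card_pos.ne'
        fun {q} hq hd => hpg q hq hd)
      have := Fact.mk Nat.prime_two
      have := h2.isNilpotent
      infer_instance
    · push_neg at hpg
      obtain ⟨p, hp, hpG, hp2⟩ := hpg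
      have := Fact.mk hp
      obtain ⟨P, -, hP⟩ := CfsgLib.Solvable.exists_smul_invariant_sylow hcop (Or.inl hA) p
        (IsPGroup.of_bot : IsPGroup p (⊥ : Subgroup G)) (fun a u hu => by
          rw [mem_bot] at hu ⊢; rw [hu, smul_one])
      set W := CfsgLib.ZJCenter.zj 0 (P : Subgroup G) with hWdef
      have hPne : (P : Subgroup G) ≠ ⊥ := P.ne_bot_of_dvd_card hpG
      have hWne : W ≠ ⊥ := CfsgLib.ZJCenter.zj_ne_bot (p := p) (Or.inl rfl) P.isPGroup' hPne
      have hWi : Inv A W := inv_zj hP 0
      have hWp : IsPGroup p W := P.isPGroup'.to_le (CfsgLib.ZJCenter.zj_le 0 _)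
      by_cases hN : normalizer (W : Set G) = ⊤
      · have hWn : W.Normal := Subgroup.normalizer_eq_top_iff.1 hN
        by_cases hWt : W = ⊤
        · have h2 : IsPGroup p G := by
            rw [hWt] at hWp
            exact hWp.of_equiv Subgroup.topEquiv
          have := h2.isNilpotent
          infer_instance
        · have := hnil W hWt hWi
          refine solvable_of_ext (N := W) inferInstance ?_
          letI := quotAct (A := A) W hWi
          refine ih (Nat.card (G ⧸ W)) ?_ (G ⧸ W) rfl ?_ ?_
          · rw [← hn, ← Subgroup.index_eq_card, ← Subgroup.card_mul_index W]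
            exact lt_mul_left (Nat.pos_of_ne_zero Subgroup.index_ne_zero_of_finite)
              ((Subgroup.one_lt_card_iff_ne_bot W).2 hWne)
          · exact hcop.coprime_dvd_right ⟨Nat.card W, by
              rw [← Subgroup.index_eq_card, Subgroup.index_mul_card]⟩
          · intro H hHt hHi
            set K := H.comap (QuotientGroup.mk' W) with hK
            have hKt : K ≠ ⊤ := fun h => hHt (by
              rw [← Subgroup.map_comap_eq_self_of_surjective (QuotientGroup.mk'_surjective W) H,
                ← hK, h, Subgroup.map_top_of_surjective _ (QuotientGroup.mk'_surjective W)])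
            have hKi : Inv A K := fun a x hx => by
              have h3 : a • (x : G ⧸ W) ∈ H := hHi a _ hx
              rwa [quotAct_mk] at h3
            have := hnil K hKt hKi
            exact Group.nilpotent_of_surjective ((QuotientGroup.mk' W).subgroupComap H)
              ((QuotientGroup.mk' W).subgroupComap_surjective_of_surjective H
                (QuotientGroup.mk'_surjective W))
      · obtain ⟨N, hNn, hNi, hNt, -, k, hk⟩ := exists_proper_npc (A := A) hp2 hpG P
          (hnil _ hN (inv_normalizer hWi))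
        have := hnil N hNt hNi
        refine solvable_of_ext (N := N) inferInstance ?_
        have h2 : IsPGroup p (G ⧸ N) := IsPGroup.of_card (n := k) (by rw [← Subgroup.index_eq_card, hk])
        have := h2.isNilpotent
        infer_instance

variable {A : Type v} {G : Type u} [Group A] [Group G] [Finite A] [Finite G] [MulDistribMulAction A G]

/-- If all proper invariant subgroups are nilpotent and the group is solvable but not nilpotent, the
order involves two primes and one invariant Sylow subgroup is normal. -/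
theorem structure_of_proper_nilpotent (hcop : (Nat.card A).Coprime (Nat.card G))
    (hsol : Group.IsSolvable G)
    (hnil : ∀ H : Subgroup G, H ≠ ⊤ → Inv A H → Group.IsNilpotent H)
    (hG : ¬ Group.IsNilpotent G) :
    (∃ p q a b : ℕ, p.Prime ∧ q.Prime ∧ p ≠ q ∧ Nat.card G = p ^ a * q ^ b) ∧
      ∃ (p : ℕ) (P : Sylow p G), p.Prime ∧ p ∣ Nat.card G ∧ (P : Subgroup G).Normal ∧
        ∀ a : A, ∀ x ∈ (P : Subgroup G), a • x ∈ (P : Subgroup G) := by
  have hnt : Nontrivial G := by
    by_contra h
    rw [not_nontrivial_iff_subsingleton] at h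
    exact hG inferInstance
  have hder : commutator G < ⊤ := Group.IsSolvable.commutator_lt_top_of_nontrivial G
  have hidx : (commutator G).index ≠ 1 := fun h => hder.ne (Subgroup.index_eq_one.1 h)
  obtain ⟨r, hr, hrd⟩ := Nat.exists_prime_and_dvd hidx
  have hrf := Fact.mk hr
  -- the subgroup generated by the derived group and the r'-elements
  set S : Set G := {g | ¬ r ∣ orderOf g} with hS
  set N := commutator G ⊔ closure S with hN
  have hNn : N.Normal := Subgroup.Normal.of_commutator_le G le_sup_left
  have hNi : Inv A N := by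
    intro a
    have : N ≤ N.comap (MulDistribMulAction.toMulAut A G a).toMonoidHom := by
      refine sup_le ?_ ((closure_le _).2 fun g hg => ?_)
      · refine fun x hx => mem_sup_left ?_
        exact (Subgroup.characteristic_iff_comap_eq.1 inferInstance
          (MulDistribMulAction.toMulAut A G a)).ge hx
      · refine mem_sup_right (subset_closure ?_)
        change ¬ r ∣ orderOf (a • g)
        rw [orderOf_smul']
        exact hg
    exact fun x hx => this hx
  have hNt : N ≠ ⊤ := by
    intro h
    obtain ⟨x, hx⟩ := exists_prime_orderOf_dvd_card' (G := G ⧸ commutator G) r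
      (by rwa [← Subgroup.index_eq_card])
    obtain ⟨g, rfl⟩ := QuotientGroup.mk_surjective x
    let T : Subgroup (Abelianization G) :=
      { carrier := {y | ¬ r ∣ orderOf y}
        one_mem' := by
          show ¬ r ∣ orderOf (1 : Abelianization G)
          rw [orderOf_one]; exact hr.not_dvd_one
        mul_mem' := fun {y z} hy hz h => by
          rcases hr.dvd_mul.1 (h.trans ((Commute.all y z).orderOf_mul_dvd_mul_orderOf)) with h' | h'
          · exact hy h'
          · exact hz h'
        inv_mem' := fun {y} hy => by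
          show ¬ r ∣ orderOf y⁻¹
          rw [orderOf_inv]; exact hy }
    have hle : N ≤ T.comap Abelianization.of := by
      refine sup_le ?_ ((closure_le _).2 fun y hy => ?_)
      · intro y hy
        change ¬ r ∣ orderOf (Abelianization.of y)
        have h1 : Abelianization.of y = 1 := by
          rw [← MonoidHom.mem_ker, Abelianization.ker_of]; exact hy
        rw [h1, orderOf_one]
        exact hr.not_dvd_one
      · exact fun h' => hy (h'.trans (orderOf_map_dvd Abelianization.of y))
    have := hle (h ▸ mem_top g : g ∈ N)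
    exact this (dvd_of_eq hx.symm)
  have hNnil := hnil N hNt hNi
  -- Sylow subgroups for primes other than r
  have hsyl : ∀ (s : ℕ) [Fact s.Prime] (Q : Sylow s G), s ≠ r →
      (Q : Subgroup G).Normal ∧ Inv A (Q : Subgroup G) := by
    intro s hs Q hsr
    have hmem : ∀ (Q' : Sylow s G), (Q' : Subgroup G) ≤ N := fun Q' x hx => by
      refine mem_sup_right (subset_closure fun hd => hsr ?_)
      obtain ⟨k, hk⟩ := (IsPGroup.iff_orderOf.1 Q'.isPGroup') ⟨x, hx⟩
      rw [← Subgroup.orderOf_coe] at hk
      rw [hk] at hd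
      exact ((Nat.prime_dvd_prime_iff_eq hr hs.out).1 (hr.dvd_of_dvd_pow hd)).symm
    have huniq : ∀ Q' : Sylow s G, Q' = Q := fun Q' => by
      have h1 : (Q'.subtype (hmem Q')) = (Q.subtype (hmem Q)) := by
        have : Subsingleton (Sylow s N) := by
          have hn : (Q.subtype (hmem Q) : Subgroup N).Normal := inferInstance
          have := Sylow.unique_of_normal (Q.subtype (hmem Q)) hn
          infer_instance
        exact Subsingleton.elim _ _
      exact Sylow.subtype_injective h1
    refine ⟨?_, fun a x hx => ?_⟩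
    · refine ⟨fun x hx g => ?_⟩
      have h1 := huniq (g • Q)
      have h2 : g * x * g⁻¹ ∈ ((g • Q : Sylow s G) : Subgroup G) := by
        rw [Sylow.coe_subgroup_smul]
        exact Subgroup.smul_mem_pointwise_smul x (MulAut.conj g) _ hx
      rwa [h1] at h2
    · have h1 := huniq (Q.mapSurjective (f := (MulDistribMulAction.toMulAut A G a).toMonoidHom)
        (MulDistribMulAction.toMulAut A G a).surjective)
      have h2 : a • x ∈ ((Q.mapSurjective (f := (MulDistribMulAction.toMulAut A G a).toMonoidHom)
          (MulDistribMulAction.toMulAut A G a).surjective : Sylow s G) : Subgroup G) :=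
        ⟨x, hx, rfl⟩
      rwa [h1] at h2
  obtain ⟨R, -, hR⟩ := CfsgLib.Solvable.exists_smul_invariant_sylow hcop (Or.inr hsol) r
    (IsPGroup.of_bot : IsPGroup r (⊥ : Subgroup G)) (fun a u hu => by
      rw [mem_bot] at hu ⊢; rw [hu, smul_one])
  obtain ⟨s, hs, Q, hsr, hns⟩ : ∃ (s : ℕ) (_ : Fact s.Prime) (Q : Sylow s G), s ≠ r ∧
      ¬ (Q : Subgroup G) ≤ normalizer ((R : Subgroup G) : Set G) := by
    by_contra hcon
    push_neg at hcon
    have hRn : (R : Subgroup G).Normal := by
      rw [← Subgroup.normalizer_eq_top_iff, ← Subgroup.index_eq_one]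
      by_contra h1
      obtain ⟨s, hs, hsd⟩ := Nat.exists_prime_and_dvd h1
      have := Fact.mk hs
      obtain ⟨Q⟩ : Nonempty (Sylow s G) := inferInstance
      by_cases hsr : s = r
      · subst hsr
        exact R.not_dvd_index (hsd.trans (Subgroup.index_dvd_of_le Subgroup.le_normalizer))
      · exact Q.not_dvd_index (hsd.trans (Subgroup.index_dvd_of_le (hcon s inferInstance Q hsr)))
    apply hG
    refine (Group.isNilpotent_of_finite_tfae.out 0 3 rfl rfl).2 fun s hs P => ?_
    by_cases hsr : s = r
    · subst hsr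
      have := Sylow.unique_of_normal R hRn
      rwa [Subsingleton.elim P R]
    · exact (hsyl s P hsr).1
  obtain ⟨hQn, hQi⟩ := hsyl s Q hsr
  have htop : (Q : Subgroup G) ⊔ (R : Subgroup G) = ⊤ := by
    by_contra h
    apply hns
    have hnl := hnil _ h (inv_sup hQi hR)
    intro x hx
    have hRsub : ((R.subtype (le_sup_right : (R : Subgroup G) ≤ (Q : Subgroup G) ⊔ R)) :
        Subgroup ((Q : Subgroup G) ⊔ R : Subgroup G)).Normal := inferInstance
    rw [Sylow.coe_subtype, Subgroup.normal_subgroupOf_iff_le_normalizer le_sup_right] at hRsub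
    exact hRsub (mem_sup_left hx)
  obtain ⟨i, hi⟩ := IsPGroup.iff_card.1 Q.isPGroup'
  obtain ⟨j, hj⟩ := IsPGroup.iff_card.1 R.isPGroup'
  have hcard : Nat.card G = s ^ i * r ^ j := by
    have hc : Subgroup.IsComplement' (Q : Subgroup G) (R : Subgroup G) :=
      Subgroup.isComplement'_of_disjoint_and_mul_eq_univ
        (IsPGroup.disjoint_of_ne s r hsr _ _ Q.isPGroup' R.isPGroup') (by
          rw [← Subgroup.normal_mul, htop, Subgroup.coe_top])
    rw [← hi, ← hj, hc.card_mul_card]
  refine ⟨⟨s, r, i, j, hs.out, hr, hsr, hcard⟩, s, Q, hs.out, ?_, hQn, hQi⟩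
  by_contra hd
  apply hns
  intro x hx
  have h1 : x = 1 := by
    rcases Nat.eq_zero_or_pos i with h0 | h0
    · have : Nat.card (Q : Subgroup G) = 1 := by rw [hi, h0, pow_zero]
      rw [Subgroup.card_eq_one.1 this] at hx
      exact mem_bot.1 hx
    · exact absurd ((dvd_pow_self s h0.ne').trans ⟨r ^ j, hcard⟩) hd
  rw [h1]
  exact one_mem _

/-- All maximal invariant subgroups nilpotent in a coprime action (`S4240`), given solvability of
`A` and of `G` when they have odd order. -/
theorem maximal_invariant_nilpotent_structure (hFA : Odd (Nat.card A) → Group.IsSolvable A)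
    (hFG : Odd (Nat.card G) → Group.IsSolvable G) (hcop : (Nat.card A).Coprime (Nat.card G))
    (hmax : ∀ H : Subgroup G, H ≠ ⊤ → (∀ a : A, ∀ x ∈ H, a • x ∈ H) →
      (∀ K : Subgroup G, H < K → (∀ a : A, ∀ x ∈ K, a • x ∈ K) → K = ⊤) → Group.IsNilpotent H)
    (hG : ¬ Group.IsNilpotent G) :
    Group.IsSolvable G ∧
      (∃ p q a b : ℕ, p.Prime ∧ q.Prime ∧ p ≠ q ∧ Nat.card G = p ^ a * q ^ b) ∧
      ∃ (p : ℕ) (P : Sylow p G), p.Prime ∧ p ∣ Nat.card G ∧ (P : Subgroup G).Normal ∧
        (∀ a : A, ∀ x ∈ (P : Subgroup G), a • x ∈ (P : Subgroup G)) := by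
  have hnil : ∀ H : Subgroup G, H ≠ ⊤ → Inv A H → Group.IsNilpotent H := fun H hne hH => by
    obtain ⟨M, hHM, hM, hMi, hMmax⟩ := exists_le_maximal hne hH
    exact nilpotent_of_le hHM (hmax M hM hMi hMmax)
  have hsol : Group.IsSolvable G := by
    rcases Nat.even_or_odd (Nat.card A) with hA | hA
    · refine hFG (Nat.not_even_iff_odd.1 fun hG2 => ?_)
      exact Nat.not_coprime_of_dvd_of_dvd one_lt_two (even_iff_two_dvd.1 hA)
        (even_iff_two_dvd.1 hG2) hcop
    · exact solvable_of_proper_nilpotent_aux A (hFA hA) _ G rfl hcop hnil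
  exact ⟨hsol, structure_of_proper_nilpotent hcop hsol hnil hG⟩

end CfsgLib.CoprimeMaxInv
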